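/-
Differentials of a quadratic algebra with a trace zero generator.
-/
import Groth.Agent.FittInv.Basic
import Mathlib.RingTheory.Kaehler.Basic
import Mathlib.RingTheory.Trace.Basic

set_option autoImplicit false

universe u

open KaehlerDifferential

namespace Groth.Agent.DCOmega

/-- For a free algebra on `1, w` with `tr w = 0` and two invertible, `Fitt₀ Ω = (w)`. -/
theorem fitt_kaehler {A B : Type u} [CommRing A] [CommRing B] [Algebra A B]
    (b : Module.Basis (Fin 2) A B) (h0 : b 0 = 1) (htr : Algebra.trace A B (b 1) = 0) (h2 : IsUnit (2 : B)) :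
    Fitt.ideal B (Ω[B⁄A]) 0 = Ideal.span {b 1} := by
  classical
  have hrepr : ∀ x : B, x = b.repr x 0 • (1 : B) + b.repr x 1 • b 1 := fun x => by
    conv_lhs => rw [← b.sum_repr x]
    rw [Fin.sum_univ_two, h0]
  have hq : b.repr (b 1 * b 1) 1 = 0 := by
    have h := htr
    rw [Algebra.trace_eq_matrix_trace b, Matrix.trace, Fin.sum_univ_two] at h
    simp only [Matrix.diag_apply, Algebra.leftMulMatrix_eq_repr_mul, h0, mul_one] at h
    simpa using h
  have hsq : b 1 * b 1 = b.repr (b 1 * b 1) 0 • (1 : B) := by
    conv_lhs => rw [hrepr (b 1 * b 1), hq, zero_smul, add_zero]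
  set p := b.repr (b 1 * b 1) 0
  let I : Ideal B := Ideal.span {b 1}
  have hmul : ∀ x y : B, b.repr (x * y) 1 = b.repr x 0 * b.repr y 1 + b.repr x 1 * b.repr y 0 := by
    intro x y
    conv_lhs => rw [hrepr x, hrepr y]
    simp only [add_mul, mul_add, smul_mul_assoc, mul_smul_comm, one_mul, mul_one, hsq, smul_smul, map_add,
      map_smul, Finsupp.coe_add, Finsupp.coe_smul, Pi.add_apply, Pi.smul_apply, smul_eq_mul]
    rw [← h0, Module.Basis.repr_self, Module.Basis.repr_self]
    simp [Finsupp.single_apply]
    ring
  have hI : ∀ x : B, Ideal.Quotient.mk I x = Ideal.Quotient.mk I (algebraMap A B (b.repr x 0)) := fun x => by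
    conv_lhs => rw [hrepr x, Algebra.smul_def, mul_one, Algebra.smul_def]
    rw [map_add, map_mul, (Ideal.Quotient.eq_zero_iff_mem).2 (Ideal.mem_span_singleton_self (b 1)), mul_zero, add_zero]
  let δ : Derivation A B (B ⧸ I) :=
    { toFun := fun x => Ideal.Quotient.mk I (algebraMap A B (b.repr x 1))
      map_add' := fun x y => by simp
      map_smul' := fun a x => by
        simp only [map_smul, Finsupp.coe_smul, Pi.smul_apply, smul_eq_mul, map_mul, RingHom.id_apply]
        rw [Algebra.smul_def]
        rfl
      map_one_eq_zero' := by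
        show Ideal.Quotient.mk I (algebraMap A B (b.repr (1 : B) 1)) = 0
        rw [← h0, Module.Basis.repr_self]
        simp [Finsupp.single_apply]
      leibniz' := fun x y => by
        show Ideal.Quotient.mk I (algebraMap A B (b.repr (x * y) 1)) =
          x • Ideal.Quotient.mk I (algebraMap A B (b.repr y 1)) + y • Ideal.Quotient.mk I (algebraMap A B (b.repr x 1))
        rw [hmul, map_add, map_add, map_mul, map_mul, map_mul, map_mul, Algebra.smul_def, Algebra.smul_def,
          Ideal.Quotient.algebraMap_eq, ← hI x, ← hI y]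
        ring }
  let m : Ω[B⁄A] := D A B (b 1)
  refine FittInv.ideal_cyclic m (b 1) ?_ fun r => ⟨fun h => ?_, fun h => ?_⟩
  · rw [eq_top_iff, ← span_range_derivation A B, Submodule.span_le]
    rintro _ ⟨x, rfl⟩
    rw [hrepr x, map_add, Derivation.map_smul, Derivation.map_one_eq_zero, smul_zero, zero_add, Derivation.map_smul,
      ← algebraMap_smul B (b.repr x 1)]
    exact Submodule.smul_mem _ _ (Submodule.mem_span_singleton_self _)
  · have h1 := congrArg (δ.liftKaehlerDifferential) h
    rw [map_smul, map_zero, Derivation.liftKaehlerDifferential_comp_D] at h1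
    change r • Ideal.Quotient.mk I (algebraMap A B (b.repr (b 1) 1)) = 0 at h1
    rw [Module.Basis.repr_self, Finsupp.single_eq_same, map_one, map_one, Algebra.smul_def, mul_one,
      Ideal.Quotient.algebraMap_eq, Ideal.Quotient.eq_zero_iff_mem] at h1
    exact h1
  · obtain ⟨c, rfl⟩ := Ideal.mem_span_singleton'.1 h
    have h1 : (2 : B) • (b 1 • m) = 0 := by
      have h2 : D A B (b 1 * b 1) = 0 := by rw [hsq, Derivation.map_smul, Derivation.map_one_eq_zero, smul_zero]
      rw [Derivation.leibniz] at h2
      rw [two_smul]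
      exact h2
    rw [mul_smul, h2.smul_eq_zero.1 h1, smul_zero]

end Groth.Agent.DCOmega
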