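/-
For a double cover of smooth proper curves in characteristic not two: the trace zero part of the
direct image of the structure sheaf pulls back to the ideal of the ramification divisor.
-/
import Groth.Agent.DCOmega.Alg
import Groth.Agent.FittInv.Basic
import Groth.Agent.FittLib.OmegaFit
import Groth.Agent.FrobSplitEtale.Main
import Groth.Agent.FEtRank.PushRank
import Groth.Agent.C1Cap.PullGen
import Groth.Agent.ZeroSch.Basic
import Groth.Agent.W7Slope.Basic
import Groth.Agent.S1688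
import Groth.Agent.CurveRR.Deg
import Groth.Agent.PnEuler.RankTwo

set_option autoImplicit false
set_option linter.style.haveILetI false
set_option linter.unusedSectionVars false
set_option backward.isDefEq.respectTransparency false
set_option backward.isDefEq.respectTransparency.types false
set_option maxHeartbeats 1000000

universe u

open CategoryTheory CategoryTheory.Limits AlgebraicGeometry TopologicalSpace Opposite
open Groth.Agent.QC (res resO app_res res_res res_self res_smul resO_resO resO_self section_eq_of_locally)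
open TMul (IsGen IsFrame)
open Groth.Agent.FrobSplitEtale (fn)

noncomputable section

namespace Groth.Agent.DCOmega

variable (k : Type u) [Field k] [IsAlgClosed k] {X Y : Scheme.{u}}
  [X.Over (Spec (CommRingCat.of k))] [Y.Over (Spec (CommRingCat.of k))]
  [IsIntegral X] [IsIntegral Y] [IsProper (X ↘ Spec (CommRingCat.of k))] [IsProper (Y ↘ Spec (CommRingCat.of k))]
  (π : X ⟶ Y) [IsFinite π] [Flat π] (hπ : π ≫ (Y ↘ Spec (CommRingCat.of k)) = X ↘ Spec (CommRingCat.of k))

include k in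
theorem isUnit_two (h2 : (2 : k) ≠ 0) {Z : Scheme.{u}} [Z.Over (Spec (CommRingCat.of k))] (U : Z.Opens) :
    IsUnit (2 : Γ(Z, U)) := by
  have h := (IsUnit.mk0 _ h2).map (((Scheme.ΓSpecIso (CommRingCat.of k)).inv ≫
    (Z ↘ Spec (CommRingCat.of k)).appTop ≫ Z.presheaf.map (homOfLE (le_top : U ≤ ⊤)).op).hom)
  rwa [map_ofNat] at h

include hπ in
theorem appTop_surjective : Function.Surjective π.appTop.hom := by
  let F := (Scheme.ΓSpecIso (CommRingCat.of k)).inv ≫ (X ↘ Spec (CommRingCat.of k)).appTop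
  letI : Field Γ(X, ⊤) := (isField_of_universallyClosed k (X ↘ Spec (CommRingCat.of k))).toField
  letI : Algebra k Γ(X, ⊤) := F.hom.toAlgebra
  haveI : Algebra.IsIntegral k Γ(X, ⊤) := ⟨by
    have : F.hom.IsIntegral := by
      apply RingHom.isIntegral_respectsIso.2 (e := (Scheme.ΓSpecIso _).symm.commRingCatIsoToRingEquiv)
      exact isIntegral_appTop_of_universallyClosed (X ↘ Spec (CommRingCat.of k))
    exact this⟩
  intro t
  obtain ⟨c, hc⟩ := (IsAlgClosed.algebraMap_bijective_of_isIntegral (k := k) (K := Γ(X, ⊤))).2 t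
  refine ⟨((Scheme.ΓSpecIso (CommRingCat.of k)).inv ≫ (Y ↘ Spec (CommRingCat.of k)).appTop).hom c, ?_⟩
  rw [← hc]
  show _ = F.hom c
  simp only [F, ← hπ, Scheme.Hom.comp_appTop]
  rfl

include hπ in
/-- The splitting of `π_* O` and the trace zero part. -/
theorem exists_split (hdimY : topologicalKrullDim Y ≤ 1)
    (hregY : ∀ y : Y, IsRegularLocalRing (Y.presheaf.stalk y)) [LocallyOfFinitePresentation π]
    (h2 : (2 : k) ≠ 0) (hrk : ∀ y : Y, π.finrank y = 2) :
    ∃ (D₀ : Y.Modules) (ι : D₀ ⟶ (Scheme.Modules.pushforward π).obj (Coh.structureModule X))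
      (T : (Scheme.Modules.pushforward π).obj (Coh.structureModule X) ⟶ Coh.structureModule Y)
      (τ : (RelSpec.QCAlg.directImage π).toModule ⟶ Coh.structureModule Y),
      ClSub.unitToPush π ≫ T = 𝟙 _ ∧ ι ≫ T = 0 ∧ Mono ι ∧ PicF.IsInvertible D₀ ∧
      (∀ (U : Y.Opens) (s : Γ(X, π ⁻¹ᵁ U)), T.app U s = 0 → ∃ d, ι.app U d = s) ∧
      (∀ (U W : Y.Opens), FinCovTr.HasFr (RelSpec.QCAlg.directImage π) U → W ≤ U →
        ∀ a : FinCovTr.Sec (RelSpec.QCAlg.directImage π) W,
          τ.app W a = FinCovTr.tr (RelSpec.QCAlg.directImage π) W a) ∧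
      (∀ (W : Y.Opens) (s : Γ(X, π ⁻¹ᵁ W)), T.app W s = 0 → τ.app W s = 0) ∧
      Nonempty ((Scheme.Modules.pushforward π).obj (Coh.structureModule X) ≅ Coh.structureModule Y ⊞ D₀) := by
  let P := (Scheme.Modules.pushforward π).obj (Coh.structureModule X)
  let A := RelSpec.QCAlg.directImage π
  let e : P ≅ A.toModule := ⟨FrobSplitEtale.toAlg π, FrobSplitEtale.ofAlg π, rfl, rfl⟩
  haveI := CurveRR.isNoetherian_of_proper k Y
  have hP2 : FlatMod.IsFinLocFreeOfRank 2 P := FEtRank.isFinLocFreeOfRank_of_finrank_eq π hrk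
  have hA2 : FlatMod.IsFinLocFreeOfRank 2 A.toModule := fun x =>
    let ⟨U, hx, ⟨i⟩⟩ := hP2 x
    ⟨U, hx, ⟨(Scheme.Modules.restrictFunctor U.ι).mapIso e.symm ≪≫ i⟩⟩
  have hA : FlatMod.IsFinLocFree A.toModule := fun x => let ⟨U, h⟩ := hA2 x; ⟨U, 2, h⟩
  obtain ⟨τ, hτ⟩ := FinCovTr.exists_trace hA
  let τ' : P ⟶ Coh.structureModule Y := e.hom ≫ τ
  let a := ClSub.unitToPush π
  -- the composite is twice the identity
  have hcomp : ∀ (U : Y.Opens) (r : Γ(Y, U)), fn ((a ≫ τ').app U r) = 2 * r := fun U r => by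
    refine section_eq_of_locally (M := Coh.structureModule Y) fun x hx => ?_
    obtain ⟨W, b, hxW, hb⟩ := CurveRR.exists_frame hA2 x
    refine ⟨U ⊓ W, inf_le_left, ⟨hx, hxW⟩, ?_⟩
    change res (Coh.structureModule Y) inf_le_left ((a ≫ τ').app U r) = resO Y inf_le_left (2 * r)
    rw [app_res (a ≫ τ'), map_mul, map_ofNat]
    let r' : Γ(Y, U ⊓ W) := resO Y (inf_le_left : U ⊓ W ≤ U) r
    change fn ((a ≫ τ').app (U ⊓ W) r') = 2 * r'
    refine (hτ W (U ⊓ W) ⟨2, b, hb⟩ inf_le_right ((π.app (U ⊓ W)).hom r')).trans ?_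
    letI : Algebra Γ(Y, U ⊓ W) (FinCovTr.Sec A (U ⊓ W)) := FinCovTr.secAlg A (U ⊓ W)
    refine (Algebra.trace_algebraMap_of_basis (FinCovTr.basisOf hb inf_le_right) _).trans ?_
    rw [Fintype.card_fin, nsmul_eq_mul, Nat.cast_ofNat]
  haveI : IsIso (a ≫ τ') := by
    rw [Scheme.Modules.Hom.isIso_iff_isIso_app]
    intro U
    rw [ConcreteCategory.isIso_iff_bijective]
    obtain ⟨c, hc⟩ := isUnit_two k h2 U
    constructor
    · intro r r' h
      have h' : (2 : Γ(Y, U)) * fn r = 2 * fn r' := (hcomp U r).symm.trans (h.trans (hcomp U r'))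
      rw [← hc] at h'
      exact c.mul_right_inj.1 h'
    · intro t
      refine ⟨(show Γ(Coh.structureModule Y, U) from c⁻¹.val * fn t), ?_⟩
      refine (hcomp U _).trans ?_
      show (2 : Γ(Y, U)) * (c⁻¹.val * fn t) = fn t
      rw [← hc, ← mul_assoc, Units.mul_inv, one_mul]
  let T : P ⟶ Coh.structureModule Y := τ' ≫ inv (a ≫ τ')
  have haT : a ≫ T = 𝟙 _ := by
    show a ≫ τ' ≫ inv (a ≫ τ') = _
    rw [← Category.assoc, IsIso.hom_inv_id]
  let S := ShortComplex.mk (kernel.ι T) T (kernel.condition T)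
  have hS : S.ShortExact :=
    { exact := ShortComplex.exact_of_f_is_kernel _ (kernelIsKernel T)
      mono_f := inferInstanceAs (Mono (kernel.ι T))
      epi_g := (SplitEpi.mk a haT).epi }
  have hPc : Coh.IsCoh P := K0Coh.isCoh_of_isFinLocFree fun x => let ⟨U, h⟩ := hP2 x; ⟨U, 2, h⟩
  have hK : Coh.IsCoh (kernel T) := Groth.Agent.QC.isCoh_kernel hPc (Groth.Agent.QC.isQCoh_unit Y) T
  have hKf : FlatMod.IsFinLocFree (kernel T) := (Groth.Agent.S1688.result Y hregY hdimY _ hK).1 fun y => by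
    have hP := PnEuler.isTorsionFree_of_isFinLocFree (E := P) (fun x => let ⟨U, h⟩ := hP2 x; ⟨U, 2, h⟩) y
    haveI := hP
    haveI := hregY y
    haveI : IsDomain (Y.presheaf.stalk y) := RegLoc.isDomain (A := Y.presheaf.stalk y)
    let i := Groth.Agent.WeakAssLib.stalkHom (kernel.ι T) y
    have hi : Function.Injective i :=
      (ModuleCat.mono_iff_injective ((DerSch.stalkFunctor Y y).map (kernel.ι T))).1 inferInstance
    exact ⟨fun {c m} h => or_iff_not_imp_left.2 fun hc => hi (by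
      rw [map_zero]
      have h' : c • i m = 0 := by rw [← Groth.Agent.WeakAssLib.stalkHom_smul, h, map_zero]
      exact (smul_eq_zero.1 h').resolve_left hc)⟩
  have hO1 : FlatMod.IsFinLocFreeOfRank 1 (Coh.structureModule Y) :=
    CurveRR.isFinLocFreeOfRank_one (PicLoc.isInvertible_structureModule Y)
  have hr : W7Slope.grk (kernel T) = 1 := by
    have h := W7Slope.grk_add hS hPc
    change W7Slope.grk P = W7Slope.grk (kernel T) + W7Slope.grk (Coh.structureModule Y) at h
    rw [W7Slope.grk_of_rank hP2, W7Slope.grk_of_rank hO1] at h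
    omega
  refine ⟨kernel T, kernel.ι T, T, τ, haT, kernel.condition T, inferInstance,
    ZeroSch.isInvertible_of_rankOne (hr ▸ W7Slope.rank_of_isFinLocFree hK.1 hKf), fun U s hs => ?_, hτ,
    fun W s hs => ?_, ⟨?_⟩⟩
  · obtain ⟨t, ht⟩ := BlowCech.exists_of_app_eq_zero hS U s hs
    exact ⟨t, ht⟩
  · have h1 : T ≫ (a ≫ τ') = τ' := by
      show (τ' ≫ inv (a ≫ τ')) ≫ (a ≫ τ') = τ'
      rw [Category.assoc, IsIso.inv_hom_id, Category.comp_id]
    have h2' : τ'.app W s = 0 := by
      rw [← h1]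
      show (a ≫ τ').app W (T.app W s) = 0
      rw [hs, map_zero]
    exact h2'
  · let sp : S.Splitting := ShortComplex.Splitting.ofExactOfSection S hS.exact a haT hS.mono_f
    exact sp.isoBinaryBiproduct ≪≫ biprod.braiding _ _

include hπ in
/-- The complement of `O` in `π_* O` is unique. -/
theorem nonempty_iso_complement {D₀ D : Y.Modules}
    (ι : D₀ ⟶ (Scheme.Modules.pushforward π).obj (Coh.structureModule X)) [Mono ι]
    (T : (Scheme.Modules.pushforward π).obj (Coh.structureModule X) ⟶ Coh.structureModule Y)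
    (hT : ClSub.unitToPush π ≫ T = 𝟙 _) (hι : ι ≫ T = 0)
    (e₀ : (Scheme.Modules.pushforward π).obj (Coh.structureModule X) ≅ Coh.structureModule Y ⊞ D₀)
    (e : (Scheme.Modules.pushforward π).obj (Coh.structureModule X) ≅ Coh.structureModule Y ⊞ D) :
    Nonempty (D ≅ D₀) := by
  have hzero : ∀ d : Γ(D₀, ⊤), d = 0 := fun d => by
    refine Groth.Agent.QC.app_injective_of_mono ι ⊤ ?_
    obtain ⟨c, hc⟩ := appTop_surjective k π hπ (show Γ(X, ⊤) from ι.app ⊤ d)
    have h1 : T.app ⊤ (ι.app ⊤ d) = 0 :=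
      congrArg (fun φ : D₀ ⟶ Coh.structureModule Y => φ.app ⊤ d) hι
    have h2 : ι.app ⊤ d = (ClSub.unitToPush π).app ⊤ c := hc.symm
    have h3 : (c : Γ(Coh.structureModule Y, ⊤)) = 0 := by
      have := congrArg (fun φ : Coh.structureModule Y ⟶ Coh.structureModule Y => φ.app ⊤ c) hT
      rw [h2] at h1
      exact this.symm.trans h1
    rw [h2, map_zero, h3, map_zero]
  let φ := e.symm ≪≫ e₀
  let u : Coh.structureModule Y ⟶ Coh.structureModule Y := biprod.inl ≫ φ.hom ≫ biprod.fst
  let v : Coh.structureModule Y ⟶ D₀ := biprod.inl ≫ φ.hom ≫ biprod.snd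
  have hv : v = 0 := TMul.hom_ext_val (hzero _ |>.trans (hzero _).symm)
  have hu : (TMul.val u ⊤ : Γ(Y, ⊤)) ≠ 0 := fun h0 => by
    have hu0 : u = 0 := TMul.hom_ext_val h0
    have h1 : biprod.inl ≫ φ.hom = 0 := biprod.hom_ext _ _ (by rw [Category.assoc, zero_comp]; exact hu0)
      (by rw [Category.assoc, zero_comp]; exact hv)
    have h2 : (biprod.inl : Coh.structureModule Y ⟶ Coh.structureModule Y ⊞ D) = 0 := by
      rw [← cancel_mono φ.hom, h1, zero_comp]
    have h3 : 𝟙 (Coh.structureModule Y) = 0 := by rw [← biprod.inl_fst, h2, zero_comp]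
    have h4 := congrArg (fun φ : Coh.structureModule Y ⟶ Coh.structureModule Y => φ.app ⊤ (1 : Γ(Y, ⊤))) h3
    haveI : Nonempty (⊤ : Y.Opens) := ⟨⟨genericPoint Y, trivial⟩⟩
    exact one_ne_zero (α := Γ(Y, ⊤)) h4
  obtain ⟨c, hc⟩ := isField_of_universallyClosed k (Y ↘ Spec (CommRingCat.of k)) |>.mul_inv_cancel hu
  haveI : IsIso u := by
    rw [Scheme.Modules.Hom.isIso_iff_isIso_app]
    intro V
    rw [ConcreteCategory.isIso_iff_bijective]
    have hval : TMul.val u V = resO Y (le_top : V ≤ ⊤) (TMul.val u ⊤) := (TMul.res_val u (le_top : V ≤ ⊤)).symm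
    have hunit : IsUnit (resO Y (le_top : V ≤ ⊤) (TMul.val u ⊤)) := (IsUnit.of_mul_eq_one c hc).map _
    have : (fun r : Γ(Y, V) => fn (u.app V r)) = fun r => r * resO Y (le_top : V ≤ ⊤) (TMul.val u ⊤) := by
      funext r
      rw [← hval]
      exact TMul.app_eq_smul u r
    show Function.Bijective fun r : Γ(Y, V) => fn (u.app V r)
    rw [this]
    exact hunit.unit.mulRight_bijective
  haveI : IsIso (biprod.inl ≫ φ.hom ≫ biprod.fst) := ‹IsIso u›
  exact ⟨Biprod.isoElim φ⟩

include hπ in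
/-- The ideal of the ramification is the pullback of the trace zero part. -/
theorem exists_iso_fitt [LocallyOfFinitePresentation π] (h2 : (2 : k) ≠ 0) (hrk : ∀ y : Y, π.finrank y = 2)
    {D₀ : Y.Modules} (ι : D₀ ⟶ (Scheme.Modules.pushforward π).obj (Coh.structureModule X)) [Mono ι]
    (T : (Scheme.Modules.pushforward π).obj (Coh.structureModule X) ⟶ Coh.structureModule Y)
    (τ : (RelSpec.QCAlg.directImage π).toModule ⟶ Coh.structureModule Y)
    (hT : ClSub.unitToPush π ≫ T = 𝟙 _) (hι : ι ≫ T = 0) (hD : PicF.IsInvertible D₀)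
    (hker : ∀ (U : Y.Opens) (s : Γ(X, π ⁻¹ᵁ U)), T.app U s = 0 → ∃ d, ι.app U d = s)
    (hτ : ∀ (U W : Y.Opens), FinCovTr.HasFr (RelSpec.QCAlg.directImage π) U → W ≤ U →
        ∀ a : FinCovTr.Sec (RelSpec.QCAlg.directImage π) W,
          τ.app W a = FinCovTr.tr (RelSpec.QCAlg.directImage π) W a)
    (hTτ : ∀ (W : Y.Opens) (s : Γ(X, π ⁻¹ᵁ W)), T.app W s = 0 → τ.app W s = 0) :
    Nonempty (ClSub.idealMod (Fitt.sheafIdeal (Omega.sheaf π) 0) ≅ (Scheme.Modules.pullback π).obj D₀) := by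
  let A := RelSpec.QCAlg.directImage π
  let adj := Scheme.Modules.pullbackPushforwardAdjunction π
  let j : (Scheme.Modules.pullback π).obj D₀ ⟶ Coh.structureModule X := (adj.homEquiv _ _).symm ι
  haveI := CurveRR.isNoetherian_of_proper k X
  have hI : PicF.IsInvertible ((Scheme.Modules.pullback π).obj D₀) := PicLoc.isInvertible_pullback π hD
  have hP2 : FlatMod.IsFinLocFreeOfRank 2 ((Scheme.Modules.pushforward π).obj (Coh.structureModule X)) :=
    FEtRank.isFinLocFreeOfRank_of_finrank_eq π hrk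
  have hjη : ∀ (W : Y.Opens) (d : Γ(D₀, W)), j.app (π ⁻¹ᵁ W) (ProjMor.eta π D₀ W d) = ι.app W d := fun W d =>
    congrArg (fun φ : D₀ ⟶ (Scheme.Modules.pushforward π).obj (Coh.structureModule X) => φ.app W d)
      ((adj.homEquiv_unit (f := j)).symm.trans (Equiv.apply_symm_apply _ _))
  -- good affine neighbourhoods
  have key : ∀ y : Y, ∃ (U : Y.affineOpens) (d : Γ(D₀, U.1)) (w : Γ(X, π ⁻¹ᵁ U.1)), y ∈ U.1 ∧ IsGen d ∧
      w = ι.app U.1 d ∧ w ≠ 0 ∧
      (Fitt.sheafIdeal (Omega.sheaf π) 0).ideal ⟨π ⁻¹ᵁ U.1, U.2.preimage π⟩ = Ideal.span {w} := by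
    intro y
    obtain ⟨V₁, g, hy₁, hg⟩ := TMul.exists_isGen hD y
    obtain ⟨V₂, b, hy₂, hb⟩ := CurveRR.exists_frame hP2 y
    obtain ⟨U, hU, hyU, hle⟩ := exists_isAffineOpen_mem_and_subset (U := V₁ ⊓ V₂) (x := y) ⟨hy₁, hy₂⟩
    have h1 : U ≤ V₁ := fun z hz => (hle hz).1
    have hfr : FinCovTr.HasFr A V₂ := ⟨2, b, hb⟩
    have hd := hg.res h1
    set d := res D₀ h1 g
    let w : Γ(X, π ⁻¹ᵁ U) := ι.app U d
    haveI : Nonempty U := ⟨⟨y, hyU⟩⟩
    letI : Algebra Γ(Y, U) Γ(X, π ⁻¹ᵁ U) := (π.app U).hom.toAlgebra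
    have hTw : T.app U w = 0 := congrArg (fun φ : D₀ ⟶ Coh.structureModule Y => φ.app U d) hι
    have hTone : ∀ r : Γ(Y, U), fn (T.app U ((π.app U).hom r)) = r := fun r =>
      congrArg (fun φ : Coh.structureModule Y ⟶ Coh.structureModule Y => fn (φ.app U r)) hT
    have hTsmul : ∀ (r : Γ(Y, U)) (s : Γ(X, π ⁻¹ᵁ U)), fn (T.app U ((π.app U).hom r * s)) = r * fn (T.app U s) :=
      fun r s => Scheme.Modules.Hom.app_smul T r s
    have hw0 : w ≠ 0 := fun h0 => by
      have hd0 : d = 0 := Groth.Agent.QC.app_injective_of_mono ι U (h0.trans (map_zero _).symm)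
      have h' : (1 : Γ(Y, U)) = 0 := by
        refine (hd U le_rfl).1 ?_
        show (1 : Γ(Y, U)) • res D₀ le_rfl d = (0 : Γ(Y, U)) • res D₀ le_rfl d
        rw [hd0, map_zero, smul_zero, smul_zero]
      exact one_ne_zero h'
    have hdec : ∀ s : Γ(X, π ⁻¹ᵁ U), ∃ r₁ : Γ(Y, U),
        s = (π.app U).hom (fn (T.app U s)) + (π.app U).hom r₁ * w := fun s => by
      have h0 : T.app U (s - (π.app U).hom (fn (T.app U s)) : Γ(X, π ⁻¹ᵁ U)) = 0 := by
        refine (map_sub (T.app U).hom s _).trans ?_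
        rw [sub_eq_zero]
        exact (hTone _).symm
      obtain ⟨d', hd'⟩ := hker U _ h0
      obtain ⟨r, hr⟩ := (hd U le_rfl).2 d'
      change r • res D₀ le_rfl d = d' at hr
      rw [res_self] at hr
      rw [← hr, Scheme.Modules.Hom.app_smul] at hd'
      exact ⟨r, (eq_add_of_sub_eq' hd'.symm)⟩
    let bas : Module.Basis (Fin 2) Γ(Y, U) Γ(X, π ⁻¹ᵁ U) :=
      Module.Basis.mk (v := ![1, w]) (by
        rw [LinearIndependent.pair_iff]
        intro r s hrs
        simp only [Algebra.smul_def, mul_one, RingHom.algebraMap_toAlgebra] at hrs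
        have hr : r = 0 := by
          have h := congrArg (fun z : Γ(X, π ⁻¹ᵁ U) => fn (T.app U z)) hrs
          rw [show fn (T.app U (0 : Γ(X, π ⁻¹ᵁ U))) = 0 from map_zero (T.app U).hom] at h
          refine Eq.trans ?_ h
          refine ((map_add (T.app U).hom _ _).trans ?_).symm
          show fn (T.app U ((π.app U).hom r)) + fn (T.app U ((π.app U).hom s * w)) = r
          refine (congrArg₂ (· + ·) (hTone r) ((hTsmul s w).trans ?_)).trans (add_zero r)
          rw [show fn (T.app U w) = 0 from hTw, mul_zero]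
        refine ⟨hr, ?_⟩
        rw [hr, map_zero, zero_add] at hrs
        refine (hd U le_rfl).1 ?_
        show s • res D₀ le_rfl d = (0 : Γ(Y, U)) • res D₀ le_rfl d
        rw [res_self, zero_smul]
        refine Groth.Agent.QC.app_injective_of_mono ι U ?_
        rw [Scheme.Modules.Hom.app_smul, map_zero]
        exact hrs) (by
        rintro s -
        obtain ⟨r, hr⟩ := hdec s
        rw [hr, Matrix.range_cons, Matrix.range_cons, Matrix.range_empty, Set.union_empty, Set.singleton_union]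
        refine Submodule.add_mem _ ?_ ?_
        · have := Submodule.smul_mem (Submodule.span Γ(Y, U) ({1, w} : Set Γ(X, π ⁻¹ᵁ U))) (fn (T.app U s))
            (Submodule.subset_span (Set.mem_insert _ _))
          rwa [Algebra.smul_def, mul_one] at this
        · have := Submodule.smul_mem (Submodule.span Γ(Y, U) ({1, w} : Set Γ(X, π ⁻¹ᵁ U))) r
            (Submodule.subset_span (Set.mem_insert_of_mem _ rfl))
          rwa [Algebra.smul_def] at this)
    have htr : Algebra.trace Γ(Y, U) Γ(X, π ⁻¹ᵁ U) (bas 1) = 0 := by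
      rw [show bas 1 = w by simp [bas]]
      exact (hτ V₂ U hfr (fun z hz => (hle hz).2) w).symm.trans (hTτ U w hTw)
    refine ⟨⟨U, hU⟩, d, w, hyU, hd, rfl, hw0, ?_⟩
    rw [FittLib.sheafIdeal_ideal (FittLib.isQCoh_omega π) (FittLib.isFT_omega π)]
    have h := FittLib.ideal_omega π hU (hU.preimage π) le_rfl 0
    rw [Scheme.Hom.appLE_eq_app] at h
    refine h.trans ?_
    have h' := fitt_kaehler bas (by simp [bas]) htr (isUnit_two k h2 _)
    rw [show bas 1 = w by simp [bas]] at h'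
    exact h'
  haveI : Mono j := by
    refine CurveRR.mono_of_ne_zero hI (PicLoc.isInvertible_structureModule X) j fun h0 => ?_
    obtain ⟨U, d, w, -, -, hwι, hw0, -⟩ := key (genericPoint Y)
    apply hw0
    rw [hwι, ← hjη, h0]
    rfl
  let p := cokernel.π j
  have hS : (ShortComplex.mk j p (cokernel.condition j)).ShortExact :=
    { exact := ShortComplex.exact_of_g_is_cokernel _ (cokernelIsCokernel j)
      mono_f := ‹_›
      epi_g := inferInstanceAs (Epi (cokernel.π j)) }
  have hC : Coh.IsCoh (cokernel j) :=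
    Groth.Agent.QC.isCoh_cokernel (CurveRR.isCoh_of_inv hI).1 NegTwist.isCoh_structureModule j
  have heq : Fitt.sheafIdeal (cokernel j) 0 = Fitt.sheafIdeal (Omega.sheaf π) 0 := by
    choose U d w hy hd hwι _ hfit using key
    refine Scheme.IdealSheafData.ext_of_iSup_eq_top (fun y => ⟨π ⁻¹ᵁ (U y).1, (U y).2.preimage π⟩)
      (top_le_iff.1 fun x _ => Opens.mem_iSup.2 ⟨π x, hy (π x)⟩) fun y => ?_
    rw [hfit y, FittLib.sheafIdeal_ideal hC.1 hC.2]
    set V := π ⁻¹ᵁ (U y).1
    have hV : IsAffineOpen V := (U y).2.preimage π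
    have hgen : IsGen (ProjMor.eta π D₀ (U y).1 (d y)) := C1Cap.isGen_eta π (hd y)
    have hje : j.app V (ProjMor.eta π D₀ (U y).1 (d y)) = w y := (hjη _ _).trans (hwι y).symm
    refine FittInv.ideal_cyclic (p.app V (1 : Γ(X, V))) (w y) ?_ fun r => ?_
    · rw [Submodule.eq_top_iff']
      intro z
      obtain ⟨z', rfl⟩ := Groth.Agent.QC.app_surjective_of_epi hV (Groth.Agent.QC.isQCoh_unit X) hC.1 p z
      have : z' = (show Γ(X, V) from z') • (show Γ(Coh.structureModule X, V) from (1 : Γ(X, V))) :=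
        (mul_one (M := Γ(X, V)) z').symm
      rw [this, Scheme.Modules.Hom.app_smul]
      exact Submodule.smul_mem _ _ (Submodule.mem_span_singleton_self _)
    · have hr1 : r • p.app V (1 : Γ(X, V)) = p.app V (show Γ(Coh.structureModule X, V) from r) := by
        rw [← Scheme.Modules.Hom.app_smul]
        exact congrArg _ (mul_one (M := Γ(X, V)) r)
      rw [hr1, Ideal.mem_span_singleton']
      constructor
      · intro h
        obtain ⟨z, hz⟩ := BlowCech.exists_of_app_eq_zero hS V (show Γ(Coh.structureModule X, V) from r) h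
        obtain ⟨q, hq⟩ := (hgen V le_rfl).2 z
        change q • res _ le_rfl _ = z at hq
        rw [res_self] at hq
        refine ⟨q, ?_⟩
        change j.app V z = _ at hz
        rw [← hq, Scheme.Modules.Hom.app_smul, hje] at hz
        exact hz
      · rintro ⟨q, rfl⟩
        have : (show Γ(Coh.structureModule X, V) from q * w y) =
            j.app V (q • ProjMor.eta π D₀ (U y).1 (d y)) := by
          rw [Scheme.Modules.Hom.app_smul, hje]; rfl
        rw [this]
        exact congrArg (fun φ : (Scheme.Modules.pullback π).obj D₀ ⟶ cokernel j =>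
          φ.app V (q • ProjMor.eta π D₀ (U y).1 (d y))) (cokernel.condition j)
  obtain ⟨θ⟩ := FittInv.exists_iso hI (PicLoc.isInvertible_structureModule X) hC.1 hC.2 j p (cokernel.condition j) hS
  rw [heq] at θ
  exact ⟨(TMul.leftUnitIso _).symm ≪≫ θ⟩

end Groth.Agent.DCOmega

end
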