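/-
Differentials of a double cover descend.
-/
import Groth.Agent.DCOmega.Main
import Groth.Agent.Hurwitz.Basic
import Groth.Agent.W7Cover.GenEtale
import Groth.Agent.GenusInsep.Bar
import Groth.Agent.P1Split.DoublePush
import Groth.Agent.KFlat.PullTensor

set_option autoImplicit false
set_option linter.style.haveILetI false
set_option linter.unusedSectionVars false
set_option backward.isDefEq.respectTransparency false
set_option backward.isDefEq.respectTransparency.types false
set_option maxHeartbeats 1000000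

universe u

open CategoryTheory CategoryTheory.Limits AlgebraicGeometry

noncomputable section

namespace Groth.Agent.DCOmega

theorem omega_descends (k : Type u) [Field k] [IsAlgClosed k] [CharZero k] {X Y : Scheme.{u}}
    [X.Over (Spec (CommRingCat.of k))] [Y.Over (Spec (CommRingCat.of k))]
    [IsIntegral X] [IsProper (X ↘ Spec (CommRingCat.of k))] [Smooth (X ↘ Spec (CommRingCat.of k))]
    (hdimX : topologicalKrullDim X = 1)
    [IsIntegral Y] [IsProper (Y ↘ Spec (CommRingCat.of k))] [Smooth (Y ↘ Spec (CommRingCat.of k))]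
    (hdimY : topologicalKrullDim Y = 1)
    (π : X ⟶ Y) [IsFinite π] [Flat π] (hπ : π ≫ (Y ↘ Spec (CommRingCat.of k)) = X ↘ Spec (CommRingCat.of k))
    (hrk : ∀ y : Y, π.finrank y = 2) :
    ∃ (D₀ Δ : Y.Modules), PicF.IsInvertible Δ ∧
      Nonempty (CohB1.tensorMod Δ D₀ ≅ Coh.structureModule Y) ∧
      Nonempty ((Scheme.Modules.pullback π).obj (CohB1.tensorMod (Omega.sheaf (Y ↘ Spec (CommRingCat.of k))) Δ) ≅
        Omega.sheaf (X ↘ Spec (CommRingCat.of k))) ∧
      ∀ D : Y.Modules, Nonempty ((Scheme.Modules.pushforward π).obj (Coh.structureModule X) ≅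
        Coh.structureModule Y ⊞ D) → Nonempty (D ≅ D₀) := by
  haveI := CurveRR.isNoetherian_of_proper k X
  haveI := CurveRR.isNoetherian_of_proper k Y
  haveI : LocallyOfFinitePresentation π := LocallyOfFinitePresentation.iff_locallyOfFiniteType.mpr inferInstance
  have h2 : (2 : k) ≠ 0 := two_ne_zero
  have e := GenusInsep.apply_genericPoint (k := k) hdimX hdimY π
  have hregY : ∀ y : Y, IsRegularLocalRing (Y.presheaf.stalk y) := fun y =>
    SmLocalST.isRegularLocalRing_stalk_of_smooth_field (Y ↘ Spec (CommRingCat.of k)) y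
  obtain ⟨D₀, ι, T, τ, hT, hι, hmono, hD, hker, hτ, hTτ, ⟨e₀⟩⟩ := exists_split k π hπ hdimY.le hregY h2 hrk
  haveI := hmono
  obtain ⟨ρ⟩ := exists_iso_fitt k π hπ h2 hrk ι T τ hT hι hD hker hτ hTτ
  have hr : π.residueDegree (genericPoint X) ≠ 0 :=
    (W7Nef.residueDegree_pos k π π.isClosedMap hdimX hdimY e).ne'
  obtain ⟨U, hU, hE⟩ := W7Cover.exists_etale_open π e hr (by
    letI := (π.residueFieldMap (genericPoint X)).hom.toAlgebra
    haveI : Module.Finite (Y.residueField (π (genericPoint X))) (X.residueField (genericPoint X)) :=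
      Module.finite_of_finrank_pos (Nat.pos_of_ne_zero hr)
    haveI : CharZero (Y.residueField (π (genericPoint X))) :=
      charZero_of_injective_ringHom (((Scheme.ΓSpecIso (CommRingCat.of k)).inv ≫
        (Y ↘ Spec (CommRingCat.of k)).appTop ≫ Y.presheaf.germ ⊤ (π (genericPoint X)) trivial ≫
          Y.residue (π (genericPoint X))).hom.injective)
    infer_instance)
  haveI := hE
  have hIX := CurveOmega.isInvertible_omega k X hdimX (CurveRR.h0_structure k X)
  have hIY := CurveOmega.isInvertible_omega k Y hdimY (CurveRR.h0_structure k Y)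
  rw [← hπ] at hIX ⊢
  obtain ⟨c, p, w, -, hS⟩ := Hurwitz.exists_shortExact k (Y ↘ Spec (CommRingCat.of k)) π hIX hIY U hU
  have hIP := PicLoc.isInvertible_pullback π hIY
  have hF : Coh.IsCoh (Omega.sheaf π) := CohFinite.isCoh_of_iso
    (IsColimit.coconePointUniqueUpToIso (cokernelIsCokernel c) hS.gIsCokernel)
    (QC.isCoh_cokernel (CurveRR.isCoh_of_inv hIP).1 (CurveRR.isCoh_of_inv hIX) c)
  obtain ⟨θ⟩ := FittInv.exists_iso hIP hIX hF.1 hF.2 c p w hS
  obtain ⟨Δ, hΔ, ⟨ε⟩⟩ := SymAlg.exists_inverse hD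
  refine ⟨D₀, Δ, hΔ, ⟨TMul.commIso Δ D₀ ≪≫ ε⟩, ⟨?_⟩,
    fun D ⟨eD⟩ => nonempty_iso_complement k π hπ ι T hT hι e₀ eD⟩
  let P := Scheme.Modules.pullback π
  let ΩX := Omega.sheaf (π ≫ Y ↘ Spec (CommRingCat.of k))
  let pt : ∀ M N : Y.Modules, CohB1.tensorMod (P.obj M) (P.obj N) ≅ P.obj (CohB1.tensorMod M N) :=
    fun M N => KFlat.pullTensorIso π M N
  exact (pt _ Δ).symm ≪≫ PicGrp.tensorModIso θ.symm (Iso.refl _) ≪≫
    TMul.assocIso ΩX _ _ ≪≫
    PicGrp.tensorModIso (Iso.refl ΩX) (PicGrp.tensorModIso ρ (Iso.refl _) ≪≫ pt D₀ Δ ≪≫ P.mapIso ε ≪≫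
      PicLoc.pullbackStructureIso π) ≪≫ TMul.commIso ΩX _ ≪≫ TMul.leftUnitIso ΩX

end Groth.Agent.DCOmega

end
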